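import Mathlib
import Cfsg.Agent.GT.TransferFrobenius
import Cfsg.Agent.GT.CoprimeNilp
import Cfsg.Agent.GT.CharSimple
import Cfsg.Agent.Loc.MssSyl

/-! Element-wise `p`-nilpotency and lifting lemmas, for S4131. -/

set_option autoImplicit false

namespace Cfsg.Agent.PN4

open Subgroup Cfsg.Agent.GT.Tr Cfsg.Agent.Loc.Mss

variable {G : Type*} [Group G] {K : Type*} [Group K] {p : ℕ}

/-- the `p'`-elements of `H` are closed under products -/
def PN (p : ℕ) (H : Subgroup G) : Prop :=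
  ∀ x ∈ H, ∀ y ∈ H, (orderOf x).Coprime p → (orderOf y).Coprime p → (orderOf (x * y)).Coprime p

/-- the order of `x` is a power of a prime other than `p` -/
def Prim (p : ℕ) (x : G) : Prop := ∃ r k : ℕ, r.Prime ∧ r ≠ p ∧ orderOf x = r ^ k

theorem PN.mono {H H' : Subgroup G} (h : PN p H) (hle : H' ≤ H) : PN p H' :=
  fun x hx y hy => h x (hle hx) y (hle hy)

theorem pn_iff [Finite G] [Fact p.Prime] {H : Subgroup G} : PN p H ↔ HasNormalPComplement p H := by
  rw [hasNormalPComplement_iff_mul_coprime]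
  constructor
  · intro h x y hx hy
    rw [← Subgroup.orderOf_coe] at hx hy ⊢
    exact h x x.2 y y.2 hx hy
  · intro h x hx y hy h1 h2
    have := h ⟨x, hx⟩ ⟨y, hy⟩ (by rwa [← Subgroup.orderOf_coe]) (by rwa [← Subgroup.orderOf_coe])
    rwa [← Subgroup.orderOf_coe] at this

theorem Prim.coprime [hp : Fact p.Prime] {x : G} (h : Prim p x) : (orderOf x).Coprime p := by
  obtain ⟨r, k, hr, hne, e⟩ := h
  rw [e]
  exact Nat.Coprime.pow_left _ ((Nat.coprime_primes hr hp.out).2 hne)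

theorem coprime_map (f : G →* K) {x : G} (h : (orderOf x).Coprime p) : (orderOf (f x)).Coprime p :=
  h.coprime_dvd_left (orderOf_map_dvd f x)

theorem eq_one_of_coprime {x : G} {k : ℕ} (h : (orderOf x).Coprime p) (hk : x ^ p ^ k = 1) :
    x = 1 := by
  have := (h.pow_right k).eq_one_of_dvd (orderOf_dvd_of_pow_eq_one hk)
  exact orderOf_eq_one_iff.1 this

theorem lift_pow [Finite G] [Fact p.Prime] (f : G →* K) {x : G} {k : ℕ} (h : f x ^ p ^ k = 1) :
    ∃ a ∈ zpowers x, f a = f x ∧ ∃ j, orderOf a = p ^ j := by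
  obtain ⟨a, ha, b, hb, ⟨j, hj⟩, hc, e⟩ := exists_pPart_mul_pPrimePart (p := p) x
  refine ⟨a, ha, ?_, j, hj⟩
  have hab : Commute a b := by
    obtain ⟨m, rfl⟩ := ha
    obtain ⟨n, rfl⟩ := hb
    exact (Commute.refl x).zpow_zpow m n
  have h1 : f b = 1 := by
    apply eq_one_of_coprime (coprime_map f hc) (k := j + k)
    have h2 : f a ^ p ^ (j + k) = 1 := by
      rw [pow_add, pow_mul, ← map_pow, ← hj, pow_orderOf_eq_one, map_one, one_pow]
    have h3 : f x ^ p ^ (j + k) = 1 := by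
      rw [pow_add, mul_comm, pow_mul, h, one_pow]
    rw [e, map_mul, (hab.map f).mul_pow, h2, one_mul] at h3
    exact h3
  conv_rhs => rw [e, map_mul, h1, mul_one]

theorem lift_coprime [Finite G] [Fact p.Prime] (f : G →* K) {x : G}
    (h : (orderOf (f x)).Coprime p) :
    ∃ b ∈ zpowers x, f b = f x ∧ (orderOf b).Coprime p := by
  obtain ⟨a, ha, b, hb, ⟨j, hj⟩, hc, e⟩ := exists_pPart_mul_pPrimePart (p := p) x
  refine ⟨b, hb, ?_, hc⟩
  have hab : Commute x b := by
    obtain ⟨n, rfl⟩ := hb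
    exact (Commute.refl x).zpow_right n
  have h1 : f a = 1 := by
    have h2 : f a = f x * (f b)⁻¹ := by rw [e, map_mul, mul_inv_cancel_right]
    apply eq_one_of_coprime (p := p) (k := j)
    · rw [h2]
      refine Nat.Coprime.coprime_dvd_left (hab.map f).inv_right.orderOf_mul_dvd_mul_orderOf ?_
      rw [orderOf_inv]
      exact h.mul_left (coprime_map f hc)
    · rw [← map_pow, ← hj, pow_orderOf_eq_one, map_one]
  conv_rhs => rw [e, map_mul, h1, one_mul]

theorem lift_prim [Finite G] (f : G →* K) {x : G} (h : Prim p (f x)) :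
    ∃ a ∈ zpowers x, f a = f x ∧ Prim p a := by
  obtain ⟨r, k, hr, hne, e⟩ := h
  have := Fact.mk hr
  obtain ⟨a, ha, h1, j, hj⟩ := lift_pow (p := r) f (k := k) (x := x) (by rw [← e, pow_orderOf_eq_one])
  exact ⟨a, ha, h1, r, j, hr, hne, hj⟩

/-- a subgroup containing all elements of prime power order prime to `p` of `M` contains `O^p(M)` -/
theorem mem_of_prim [Finite G] [hp : Fact p.Prime] {M X : Subgroup G} (h : ∀ x ∈ M, Prim p x → x ∈ X)
    {x : G} (hx : x ∈ M) (hc : (orderOf x).Coprime p) : x ∈ X := by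
  induction hn : orderOf x using Nat.strong_induction_on generalizing x with
  | _ n ih =>
    by_cases h1 : x = 1
    · rw [h1]; exact X.one_mem
    obtain ⟨r, hr, hd⟩ := Nat.exists_prime_and_dvd (mt orderOf_eq_one_iff.1 h1)
    have := Fact.mk hr
    obtain ⟨a, ha, b, hb, ⟨j, hj⟩, hb', e⟩ := exists_pPart_mul_pPrimePart (p := r) x
    have hrp : r ≠ p := fun e => by
      subst e
      exact hr.one_lt.ne' (Nat.Coprime.eq_one_of_dvd hc.symm hd)
    have hM := zpowers_le.2 hx
    have hbd : orderOf b ∣ orderOf x := orderOf_dvd_of_mem_zpowers hb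
    have hlt : orderOf b < n := by
      rw [← hn]
      refine lt_of_le_of_ne (Nat.le_of_dvd (orderOf_pos x) hbd) fun e => ?_
      rw [e] at hb'
      exact hr.one_lt.ne' (Nat.Coprime.eq_one_of_dvd hb'.symm hd)
    rw [e]
    exact X.mul_mem (h a (hM ha) ⟨r, j, hr, hrp, hj⟩)
      (ih _ hlt (hM hb) (hc.coprime_dvd_left hbd) rfl)

/-- an element centralising `D` and `s` modulo the `p`-group `D` -/
theorem commute_of_mod {D : Subgroup G} (hD : IsPGroup p D) {x s : G} (hx : x ∈ 𝐂[D])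
    (hc : (orderOf x).Coprime p) (h : s⁻¹ * (x * s * x⁻¹) ∈ D) : Commute x s := by
  set d := s⁻¹ * (x * s * x⁻¹) with hd
  have h1 : x * s * x⁻¹ = s * d := by rw [hd]; group
  have h2 : x * d * x⁻¹ = d := by rw [← mem_cent.1 hx d h]; group
  have h3 : ∀ n : ℕ, x ^ n * s * (x ^ n)⁻¹ = s * d ^ n := by
    intro n
    induction n with
    | zero => simp
    | succ n ih =>
      calc x ^ (n + 1) * s * (x ^ (n + 1))⁻¹ = x * (x ^ n * s * (x ^ n)⁻¹) * x⁻¹ := by group
        _ = (x * s * x⁻¹) * (x * d * x⁻¹) ^ n := by rw [ih, conj_pow]; group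
        _ = s * d ^ (n + 1) := by rw [h1, h2]; group
  have h4 := h3 (orderOf x)
  rw [pow_orderOf_eq_one, one_mul, inv_one, mul_one, left_eq_mul] at h4
  obtain ⟨k, hk⟩ := pg_iff.1 hD d h
  have h5 : d = 1 := eq_one_of_coprime (hc.coprime_dvd_left (orderOf_dvd_of_pow_eq_one h4)) hk
  rw [h5, mul_one, mul_inv_eq_iff_eq_mul] at h1
  exact h1

/-- fixed points of an element of order `p` in a quotient by a `p'`-group -/
theorem exists_commute [Finite G] [hp : Fact p.Prime] {N : Subgroup G} [N.Normal]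
    (hN : (Nat.card N).Coprime p) {x s : G} (hs : s ^ p = 1) (h : s⁻¹ * (x * s * x⁻¹) ∈ N) :
    ∃ n ∈ N, Commute (n * x) s := by
  have hpg : ∀ y : G, y ^ p = 1 → IsPGroup p (zpowers y) := fun y hy =>
    pg_iff.2 fun z hz => by
      obtain ⟨k, rfl⟩ := hz
      exact ⟨1, by rw [pow_one, ← zpow_natCast, ← zpow_mul, mul_comm, zpow_mul, zpow_natCast, hy,
        one_zpow]⟩
  have hsyl : Syl p (zpowers s) (N ⊔ zpowers s) := by
    refine Syl.of_maximal (hpg s hs) le_sup_right fun P hP h1 h2 => ?_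
    have h3 := dedekind' (N := N) (H := zpowers s) (M := P) (norm_normal _ _) h1
    rw [inf_eq_right.2 h2, eq_bot_of_coprime (hP.to_le inf_le_right) inf_le_left hN,
      bot_sup_eq] at h3
    exact h3.le
  set t := x * s * x⁻¹ with ht
  have htp : t ^ p = 1 := by rw [ht, conj_pow, hs]; group
  obtain ⟨g, hg, hle⟩ := hsyl.conj_le (hpg t htp) (zpowers_le.2 (by
    have : t = s * (s⁻¹ * t) := by group
    rw [this]
    exact mul_mem (mem_sup_right (mem_zpowers s)) (mem_sup_left h)))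
  obtain ⟨y, hy, n, hn, rfl⟩ := (mem_sup_norm' (norm_normal (zpowers s) N)).1 (sup_comm N _ ▸ hg)
  have h1 : y * n * t * (y * n)⁻¹ ∈ zpowers s := hle (conj_mem_cj (mem_zpowers t))
  have h2 : n * t * n⁻¹ ∈ zpowers s := by
    have : n * t * n⁻¹ = y⁻¹ * (y * n * t * (y * n)⁻¹) * y := by group
    rw [this]
    exact mul_mem (mul_mem (inv_mem hy) h1) hy
  have h3 : s⁻¹ * (n * t * n⁻¹) ∈ N := by
    have : s⁻¹ * (n * t * n⁻¹) = (s⁻¹ * n * s⁻¹⁻¹) * (s⁻¹ * t) * n⁻¹ := by group
    rw [this]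
    exact mul_mem (mul_mem (Normal.conj_mem inferInstance n hn _) h) (inv_mem hn)
  have h4 : s⁻¹ * (n * t * n⁻¹) ∈ (⊥ : Subgroup G) := by
    rw [← eq_bot_of_coprime (P := N ⊓ zpowers s) ((hpg s hs).to_le inf_le_right) inf_le_left hN]
    exact ⟨h3, (zpowers s).mul_mem ((zpowers s).inv_mem (mem_zpowers s)) h2⟩
  refine ⟨n, hn, ?_⟩
  rw [mem_bot, inv_mul_eq_one, ht] at h4
  change n * x * s = s * (n * x)
  conv_rhs => rw [h4]
  group

/-- the configuration studied by induction -/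
structure Cfg (p : ℕ) (M : Subgroup G) : Prop where
  A : ∀ s : G, orderOf s = p → PN p (M ⊓ centralizer {s})
  B : ∀ w ∈ M, Prim p w → ∃ s : G, orderOf s = p ∧ Commute s w

theorem Cfg.mono {M N : Subgroup G} (h : Cfg p M) (hle : N ≤ M) : Cfg p N :=
  ⟨fun s hs => (h.A s hs).mono (inf_le_inf_right _ hle), fun w hw => h.B w (hle hw)⟩

/-- every element of odd prime order is fixed by an automorphism of order at most two whose fixed
points form a `2`-nilpotent group -/
def Hy (J : Type*) [Group J] : Prop :=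
  ∀ w : J, (orderOf w).Prime → orderOf w ≠ 2 →
    ∃ σ : MulAut J, (∀ x, σ (σ x) = x) ∧ σ w = w ∧ PN 2 (σ.toMonoidHom.eqLocus (MonoidHom.id J))

theorem Hy.of_equiv {J J' : Type*} [Group J] [Group J'] (h : Hy J) (e : J ≃* J') : Hy J' := by
  intro w h1 h2
  obtain ⟨σ, h3, h4, h5⟩ := h (e.symm w) (by rwa [MulEquiv.orderOf_eq]) (by rwa [MulEquiv.orderOf_eq])
  refine ⟨(e.symm.trans σ).trans e, fun x => by simp [h3], by simp [h4], fun x hx y hy a b => ?_⟩
  have key : ∀ z, z ∈ (MulEquiv.toMonoidHom ((e.symm.trans σ).trans e)).eqLocus (MonoidHom.id J') →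
      e.symm z ∈ σ.toMonoidHom.eqLocus (MonoidHom.id J) := fun z hz => by
    have : e (σ (e.symm z)) = z := hz
    change σ (e.symm z) = e.symm z
    conv_rhs => rw [← this]
    simp
  have := h5 _ (key x hx) _ (key y hy) (by rwa [MulEquiv.orderOf_eq]) (by rwa [MulEquiv.orderOf_eq])
  rwa [← map_mul, MulEquiv.orderOf_eq] at this

end Cfsg.Agent.PN4
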