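import Mathlib
import Cfsg.Agent.PN4.Defs
import Cfsg.Agent.GT.TransferAbelian
import Cfsg.Agent.S0205

/-! The induction on the configuration `Cfg`. -/

set_option autoImplicit false
set_option linter.unusedSectionVars false

namespace Cfsg.Agent.PN4

open Subgroup Cfsg.Agent.GT.Tr Cfsg.Agent.Loc.Mss

universe u

variable {G : Type u} [Group G] [Finite G] {p : ℕ} [hp : Fact p.Prime] {M N : Subgroup G}

theorem coprime_of_quot [N.Normal] (hN : (Nat.card N).Coprime p) {x : G}
    (h : (orderOf (QuotientGroup.mk' N x)).Coprime p) : (orderOf x).Coprime p := by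
  have h1 : x ^ orderOf (QuotientGroup.mk' N x) ∈ N := by
    rw [← QuotientGroup.eq_one_iff]
    exact pow_orderOf_eq_one (QuotientGroup.mk' N x)
  have h2 : x ^ (orderOf (QuotientGroup.mk' N x) * Nat.card N) = 1 := by
    rw [pow_mul]
    exact congrArg Subtype.val (pow_card_eq_one' (G := N) (x := ⟨_, h1⟩))
  exact (h.mul_left hN).coprime_dvd_left (orderOf_dvd_of_pow_eq_one h2)

theorem Cfg.quot (h : Cfg p M) [N.Normal] (hle : N ≤ M) (hN : (Nat.card N).Coprime p) :
    Cfg p (M.map (QuotientGroup.mk' N)) := by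
  set π := QuotientGroup.mk' N with hπ
  have hker : ∀ x : G, π x = 1 ↔ x ∈ N := fun x => QuotientGroup.eq_one_iff x
  have hord : ∀ x : G, x ^ p = 1 → x ≠ 1 → orderOf (π x) = p := fun x h1 h2 =>
    orderOf_eq_prime (by rw [← map_pow, h1, map_one]) fun e => h2
      (eq_one_of_coprime (k := 1) (hN.coprime_dvd_left (orderOf_dvd_natCard N ((hker x).1 e)))
        (by rwa [pow_one]))
  constructor
  · intro s hs
    obtain ⟨s, rfl⟩ := QuotientGroup.mk'_surjective N s
    rw [← hπ] at hs ⊢
    obtain ⟨a, -, ha, j, hj⟩ := lift_pow (p := p) π (x := s) (k := 1)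
      (by rw [pow_one, ← hs]; exact pow_orderOf_eq_one _)
    rw [← ha] at hs ⊢
    have h1 : a ^ p = 1 := by
      refine eq_one_of_coprime (k := j) (hN.coprime_dvd_left (orderOf_dvd_natCard N
        ((hker _).1 ?_))) ?_
      · rw [map_pow, ← hs, pow_orderOf_eq_one]
      · rw [← pow_mul, mul_comm, pow_mul, ← hj, pow_orderOf_eq_one, one_pow]
    have h2 := h.A a (orderOf_eq_prime h1 fun e => by
      rw [e, map_one, orderOf_one] at hs
      exact hp.out.one_lt.ne hs)
    have key : ∀ x ∈ M.map π ⊓ centralizer {π a}, ∃ y ∈ M ⊓ centralizer {a}, π y = x := by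
      rintro _ ⟨⟨x, hx, rfl⟩, hx'⟩
      have h4 : π a * π x = π x * π a := hx' _ rfl
      obtain ⟨n, hn, hc⟩ := exists_commute hN (x := x) h1 ((hker _).1 (by
        rw [map_mul, map_mul, map_mul, map_inv, map_inv, ← h4]; group))
      exact ⟨n * x, ⟨M.mul_mem (hle hn) hx, mem_centralizer_singleton_iff.2 hc⟩, by
        rw [map_mul, (hker n).2 hn, one_mul]⟩
    intro x hx y hy hx' hy'
    obtain ⟨x, a1, rfl⟩ := key x hx
    obtain ⟨y, b1, rfl⟩ := key y hy
    rw [← map_mul]
    exact coprime_map _ (h2 x a1 y b1 (coprime_of_quot hN hx') (coprime_of_quot hN hy'))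
  · rintro _ ⟨w, hw, rfl⟩ h1
    obtain ⟨x, hx, h2, h3⟩ := lift_prim π h1
    obtain ⟨s, hs, hc⟩ := h.B x (zpowers_le.2 hw hx) h3
    refine ⟨π s, hord s (hs ▸ pow_orderOf_eq_one s) fun e => ?_, h2 ▸ hc.map π⟩
    rw [e, orderOf_one] at hs
    exact hp.out.one_lt.ne hs

theorem PN.of_quot [N.Normal] (hN : (Nat.card N).Coprime p)
    (h : PN p (M.map (QuotientGroup.mk' N))) : PN p M := fun x hx y hy a b =>
  coprime_of_quot hN (by
    rw [map_mul]
    exact h _ (mem_map_of_mem _ hx) _ (mem_map_of_mem _ hy) (coprime_map _ a) (coprime_map _ b))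

theorem PN.coprime_of_mem_res {H : Subgroup G} (h : PN p H) {x : G} (hx : x ∈ pResidualOf p H) :
    (orderOf x).Coprime p := by
  obtain ⟨x, hx, rfl⟩ := hx
  have := (pn_iff.1 h).mem_pResidual_iff.1 hx
  rwa [← Subgroup.orderOf_coe] at this

theorem Cfg.of_pg (h : Cfg p M) [N.Normal] (hle : N ≤ M) (hN : IsPGroup p N) (h1 : N ≠ ⊥) :
    PN p M := by
  have key : ∀ w ∈ M, Prim p w → w ∈ 𝐂[N] := by
    intro w hw hw'
    obtain ⟨s, hs, hc⟩ := h.B w hw hw'
    have h2 := h.A s hs
    refine zpowers_le.1 (GT.CopAct.thompson_times (p := p) (P := zpowers s) ?_ ?_ hN ?_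
      (norm_normal _ _) (norm_normal _ _) ?_)
    · exact IsPGroup.of_card (n := 1) (by rw [Nat.card_zpowers, hs, pow_one])
    · rw [Nat.card_zpowers]; exact hw'.coprime
    · refine zpowers_le.2 (mem_cent.2 ?_)
      rintro _ ⟨n, rfl⟩
      exact (hc.zpow_right n).symm
    · refine cent_comm (zpowers_le.2 ?_)
      have hwC : w ∈ M ⊓ centralizer {s} := ⟨hw, mem_centralizer_singleton_iff.2 hc.symm⟩
      have h3 := (pn_iff.1 h2).mem_centralizer
        (Q := N.subgroupOf (M ⊓ centralizer {s})) (hN.comap_subtype) (g := ⟨w, hwC⟩)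
        (by rw [normalizer_eq_top]; trivial) (by rw [← Subgroup.orderOf_coe]; exact hw'.coprime)
      refine mem_cent.2 fun a ha => ?_
      have h4 : a ∈ M ⊓ centralizer {s} :=
        ⟨hle ha.1, mem_centralizer_singleton_iff.2 (mem_cent.1 ha.2 s (mem_zpowers s)).symm⟩
      exact congrArg Subtype.val (h3 ⟨a, h4⟩ ha.1)
  obtain ⟨k, hk⟩ := IsPGroup.iff_card.1 hN
  obtain ⟨z, hz⟩ := exists_prime_orderOf_dvd_card' (G := N) p (by
    rw [hk]
    refine dvd_pow_self p fun e => h1 ?_
    rw [e, pow_zero] at hk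
    exact card_eq_one.1 hk)
  have h2 := h.A z (by rwa [Subgroup.orderOf_coe])
  have h3 : ∀ x ∈ M, (orderOf x).Coprime p → x ∈ pResidualOf p (M ⊓ centralizer {(z : G)}) :=
    fun x hx hc => mem_of_prim (fun w hw hw' => mem_res (mem_inf.2
      ⟨hw, mem_centralizer_singleton_iff.2 (mem_cent.1 (key w hw hw') z z.2).symm⟩) hw'.coprime) hx hc
  exact fun x hx y hy a b => h2.coprime_of_mem_res (mul_mem (h3 x hx a) (h3 y hy b))

theorem Cfg.simple (h : Cfg 2 N) (hN : GT.IsMinNormal N) (hs : ¬ Group.IsSolvable N) :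
    IsSimpleGroup N := by
  obtain ⟨T, _, _, n, hn, ⟨e⟩⟩ := hN.exists_mulEquiv_pow
  have : Finite (Fin n → T) := Finite.of_equiv _ e.toEquiv
  have : Finite T := Finite.of_injective (fun x : T => fun _ : Fin n => x) fun x y h =>
    congrFun h ⟨0, hn⟩
  have hT : ¬ Group.IsSolvable T := fun h =>
    hs (Group.isSolvable_of_comm fun x y => e.injective (by
      rw [map_mul, map_mul]
      exact funext fun i => IsSimpleGroup.comm_iff_isSolvable.2 h _ _))
  have h2 : 2 ∣ Nat.card T := by
    by_contra h2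
    exact hT (S0205.result (Nat.odd_iff.2 (by omega)))
  obtain rfl : n = 1 := by
    by_contra h1
    obtain ⟨t, ht⟩ := exists_prime_orderOf_dvd_card' 2 h2
    let i : Fin n := ⟨0, hn⟩
    let j : Fin n := ⟨1, by omega⟩
    have hij : i ≠ j := by simp [i, j]
    let f : Fin n → T →* G := fun k =>
      N.subtype.comp (e.symm.toMonoidHom.comp (MonoidHom.mulSingle (fun _ : Fin n => T) k))
    have hf : ∀ k, Function.Injective (f k) := fun k =>
      N.subtype_injective.comp (e.symm.injective.comp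
        (Pi.mulSingle_injective (M := fun _ : Fin n => T) k))
    have h3 := h.A (f i t) (by rwa [orderOf_injective _ (hf i)])
    have h4 : ∀ x, f j x ∈ N ⊓ centralizer {f i t} := fun x =>
      ⟨(e.symm _).2, mem_centralizer_singleton_iff.2
        (((Pi.mulSingle_commute (f := fun _ : Fin n => T) hij.symm x t).map e.symm).map N.subtype)⟩
    have h5 : HasNormalPComplement 2 T := hasNormalPComplement_iff_mul_coprime.2 fun x y a b => by
      rw [← orderOf_injective _ (hf j)] at a b ⊢
      rw [map_mul]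
      exact h3 _ (h4 x) _ (h4 y) a b
    have h6 := h5.card_eq_of_isSimpleGroup h2
    have := isCyclic_of_prime_card h6
    exact hT (Group.isSolvable_of_comm fun x y => IsCyclic.commGroup.mul_comm x y)
  exact (e.trans (MulEquiv.funUnique (Fin 1) T)).isSimpleGroup

theorem Cfg.hy (h : Cfg 2 N) [hN : N.Normal] : Hy N := by
  intro w h1 h2
  obtain ⟨s, hs, hc⟩ := h.B w w.2 ⟨_, 1, h1, h2, by rw [Subgroup.orderOf_coe, pow_one]⟩
  have hss : s * s = 1 := by rw [← pow_two, ← hs, pow_orderOf_eq_one]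
  refine ⟨MulAut.conjNormal s, fun x => ?_, Subtype.ext ?_, fun x hx y hy a b => ?_⟩
  · rw [← MulAut.mul_apply, ← map_mul, hss, map_one, MulAut.one_apply]
  · rw [MulAut.conjNormal_apply, hc.eq, mul_inv_cancel_right]
  · have key : ∀ z : N, z ∈ (MulEquiv.toMonoidHom (MulAut.conjNormal s : MulAut N)).eqLocus
        (MonoidHom.id N) → (z : G) ∈ N ⊓ centralizer {s} := fun z hz => by
      have : s * z * s⁻¹ = z := congrArg Subtype.val hz
      exact ⟨z.2, mem_centralizer_singleton_iff.2 (mul_inv_eq_iff_eq_mul.1 this).symm⟩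
    rw [← Subgroup.orderOf_coe] at a b ⊢
    exact h.A s hs _ (key x hx) _ (key y hy) a b

theorem Cfg.cent (h : Cfg 2 N) (t : N) (ht : orderOf t = 2) :
    HasNormalPComplement 2 (centralizer ({t} : Set N)) := by
  rw [← pn_iff]
  intro x hx y hy a b
  have key : ∀ z : N, z ∈ centralizer ({t} : Set N) → (z : G) ∈ N ⊓ centralizer {(t : G)} :=
    fun z hz => ⟨z.2, mem_centralizer_singleton_iff.2
      (congrArg Subtype.val (mem_centralizer_singleton_iff.1 hz))⟩
  rw [← Subgroup.orderOf_coe] at a b ⊢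
  exact h.A t (by rwa [Subgroup.orderOf_coe]) _ (key x hx) _ (key y hy) a b

theorem ind (fin : p = 2 → ∀ (J : Type u) [Group J] [Finite J] [IsSimpleGroup J],
      ¬ IsMulCommutative J →
      (∀ t : J, orderOf t = 2 → HasNormalPComplement 2 (centralizer ({t} : Set J))) → ¬ Hy J)
    (L : Type u) [Group L] [Finite L] :
    ∀ M : Subgroup L, M.Normal → Cfg p M → (p = 2 ∨ Group.IsSolvable L) → PN p M := by
  refine GT.card_induction (P := fun L _ _ =>
    ∀ M : Subgroup L, M.Normal → Cfg p M → (p = 2 ∨ Group.IsSolvable L) → PN p M) ?_ L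
  intro L _ _ ih M _ h hs
  by_cases h0 : M = ⊥
  · rintro x hx y hy - -
    rw [h0, mem_bot] at hx hy
    simp [hx, hy]
  obtain ⟨N, hN, hle⟩ := GT.exists_isMinNormal_le h0
  have := hN.normal
  by_cases h1 : Group.IsSolvable N
  · obtain ⟨q, hq, h2, -⟩ := hN.exists_isPGroup
    by_cases h3 : q = p
    · exact h.of_pg hle (h3 ▸ h2) hN.ne_bot
    · have := Fact.mk hq
      obtain ⟨k, hk⟩ := IsPGroup.iff_card.1 h2
      have h4 : (Nat.card N).Coprime p := hk ▸ Nat.Coprime.pow_left _
        ((Nat.coprime_primes hq hp.out).2 h3)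
      refine PN.of_quot h4 (ih _ ?_ _ inferInstance (h.quot hle h4)
        (hs.imp_right fun hs => by
          have : Group.IsSolvable L := hs
          exact Group.isSolvable_of_surjective (QuotientGroup.mk'_surjective N)))
      rw [card_eq_card_quotient_mul_card_subgroup N]
      exact lt_mul_of_one_lt_right Nat.card_pos (one_lt_card_iff_ne_bot N |>.2 hN.ne_bot)
  · obtain rfl : p = 2 := hs.resolve_right fun _ => h1 inferInstance
    have h2 := h.mono hle
    have := h2.simple hN h1
    exact absurd h2.hy (fin rfl N (fun e => h1 (Group.isSolvable_of_comm e.is_comm.comm)) h2.cent)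

end Cfsg.Agent.PN4
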