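import Mathlib
import Cfsg.Agent.PN4.Ind
import Cfsg.Agent.CIT.Defs

/-! Three abstract obstructions to `Hy`. -/

set_option autoImplicit false
set_option linter.unusedSectionVars false

namespace Cfsg.Agent.PN4

open Subgroup Cfsg.Agent.GT.Tr Cfsg.Agent.Loc.Mss

theorem card_mod_two {X : Type*} [Finite X] (f : X → X) (hf : ∀ x, f (f x) = x) :
    Nat.card X ≡ Nat.card {x // f x = x} [MOD 2] := by
  classical
  have := Fintype.ofFinite X
  have h := Equiv.Perm.card_fixedPoints_modEq (f := (f : Function.End X)) (p := 2) (n := 1)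
    (funext fun x => hf x)
  rw [← Nat.card_eq_fintype_card, ← Nat.card_eq_fintype_card] at h
  exact h

variable {J : Type*} [Group J] [Finite J]

/-- fixed points of an automorphism -/
abbrev fx (σ : MulAut J) : Subgroup J := σ.toMonoidHom.eqLocus (MonoidHom.id J)

theorem mem_fx {σ : MulAut J} {x : J} : x ∈ fx σ ↔ σ x = x := Iff.rfl

theorem mem_aut_smul {p : ℕ} {α : MulAut J} {P : Sylow p J} {x : J} : α x ∈ α • P ↔ x ∈ P := by
  change α x ∈ ((α • P : Sylow p J) : Subgroup J) ↔ x ∈ (P : Subgroup J)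
  rw [Sylow.pointwise_smul_def]
  exact smul_mem_pointwise_smul_iff (a := α)

theorem aut_smul_smul {p : ℕ} (α : MulAut J) (g : J) (P : Sylow p J) :
    α • g • P = α g • α • P := by
  rw [Sylow.smul_def, Sylow.smul_def, ← mul_smul, ← mul_smul]
  congr 1
  ext x
  simp

variable {σ : MulAut J}

theorem mem_K (h : PN 2 (fx σ)) {x : J} :
    x ∈ pResidualOf 2 (fx σ) ↔ σ x = x ∧ Odd (orderOf x) :=
  ⟨fun hx => ⟨res_le _ hx, Nat.coprime_two_right.1 (h.coprime_of_mem_res hx)⟩,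
    fun hx => mem_res hx.1 (Nat.coprime_two_right.2 hx.2)⟩

theorem exists_two_pow {x : J} (h : ¬ Odd (orderOf x)) : ∃ t ∈ zpowers x, orderOf t = 2 := by
  obtain ⟨t, ht⟩ := exists_prime_orderOf_dvd_card' (G := zpowers x) 2
    (by rw [Nat.card_zpowers]; exact even_iff_two_dvd.1 (Nat.not_odd_iff_even.1 h))
  exact ⟨t, t.2, by rwa [Subgroup.orderOf_coe]⟩

theorem exists_inv (hJ : Even (Nat.card J)) (hσ : ∀ x, σ (σ x) = x) (h : PN 2 (fx σ)) {r : ℕ}
    [Fact r.Prime] {R : Subgroup J} (hR : Syl r R (pResidualOf 2 (fx σ))) :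
    ∃ t : J, σ t = t ∧ orderOf t = 2 ∧ t ∈ 𝐍[R] := by
  have h1 : 2 ∣ Nat.card (fx σ) :=
    (Nat.modEq_zero_iff_dvd.1 ((card_mod_two σ hσ).symm.trans
      (Nat.modEq_zero_iff_dvd.2 (even_iff_two_dvd.1 hJ))))
  obtain ⟨t, ht⟩ := exists_prime_orderOf_dvd_card' 2 h1
  obtain ⟨m, hm, k, hk, e⟩ := hR.frattini (le_norm_res (fx σ) t.2)
  have h2 : k ∈ fx σ := by
    have : k = m⁻¹ * t := by rw [e]; group
    rw [this]
    exact mul_mem (inv_mem (res_le _ hm)) t.2
  have h3 : ¬ Odd (orderOf k) := fun h3 => by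
    have := ((mem_K h).1 (e ▸ mul_mem hm ((mem_K h).2 ⟨h2, h3⟩))).2
    rw [Subgroup.orderOf_coe, ht] at this
    exact absurd this (by decide)
  obtain ⟨u, hu, hu'⟩ := exists_two_pow h3
  exact ⟨u, zpowers_le.2 h2 hu, hu', zpowers_le.2 hk hu⟩

theorem exists_syl (h : PN 2 (fx σ)) {r : ℕ} [hr : Fact r.Prime] (h2 : r ≠ 2) {w : J}
    (hw : orderOf w = r) (hσ : σ w = w) :
    ∃ R : Subgroup J, w ∈ R ∧ Syl r R (pResidualOf 2 (fx σ)) := by
  obtain ⟨R, h3, h4⟩ := Syl.exists_ge (p := r) (P := zpowers w)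
    (IsPGroup.of_card (n := 1) (by rw [Nat.card_zpowers, hw, pow_one]))
    (zpowers_le.2 ((mem_K h).2 ⟨hσ, hw ▸ hr.out.odd_of_ne_two h2⟩))
  exact ⟨R, h3 (mem_zpowers w), h4⟩

theorem not_hy_seven {m : ℕ} (hc : Nat.card J = 7 * m) (hm : m % 14 = 10)
    (h : ∀ g : J, 7 ∣ orderOf g → g ^ 7 = 1) : ¬ Hy J := by
  intro hy
  have : Fact (Nat.Prime 7) := ⟨by norm_num⟩
  obtain ⟨w, hw⟩ := exists_prime_orderOf_dvd_card' (G := J) 7 ⟨m, hc⟩
  obtain ⟨σ, h1, h2, h3⟩ := hy w (by rw [hw]; norm_num) (by omega)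
  obtain ⟨R, h4, h5⟩ := exists_syl h3 (by norm_num) hw h2
  obtain ⟨t, -, ht, htR⟩ := exists_inv (by rw [hc, Nat.even_iff]; omega) h1 h3 h5
  obtain ⟨P, hP⟩ := h5.pg.exists_le_sylow
  have hP7 : Nat.card P = 7 := by
    obtain ⟨k, hk⟩ := IsPGroup.iff_card.1 P.2
    have a := card_subgroup_dvd_card (P : Subgroup J)
    have b := orderOf_dvd_natCard _ (hP h4)
    rw [hk] at a b ⊢
    rw [hw] at b
    rcases k with _ | _ | k
    · norm_num at b
    · norm_num
    · have := (pow_dvd_pow 7 (show 2 ≤ k + 1 + 1 by omega)).trans a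
      omega
  have hPw : (P : Subgroup J) = zpowers w :=
    (eq_of_le_of_card_ge (zpowers_le.2 (hP h4)) (by rw [Nat.card_zpowers, hw, hP7])).symm
  have hRP : R = P := le_antisymm hP (hPw ▸ zpowers_le.2 h4)
  have hcyc : IsCyclic P := isCyclic_of_prime_card hP7
  have hC : 𝐂[(P : Subgroup J)] = P := by
    refine le_antisymm ?_ (le_centralizer _)
    have : IsPGroup 7 𝐂[(P : Subgroup J)] := pg_iff.2 fun c hc => ⟨1, by
      have hcw : Commute w c := mem_cent.1 hc w (hP h4)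
      by_cases h7 : 7 ∣ orderOf c
      · exact h c h7
      · have h8 := h (w * c) (by
          rw [hcw.orderOf_mul_eq_mul_orderOf_of_coprime
            (hw ▸ (Nat.Prime.coprime_iff_not_dvd this.out).2 h7), hw]
          exact Dvd.intro _ rfl)
        rwa [hcw.mul_pow, ← hw, pow_orderOf_eq_one, one_mul, hw] at h8⟩
    exact (P.3 this (le_centralizer _)).le
  have key := card_dvd_of_injective _
    (QuotientGroup.kerLift_injective (P : Subgroup J).normalizerMonoidHom)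
  rw [normalizerMonoidHom_ker, ← index, ← relIndex, hC, hcyc.card_mulAut, hP7,
    Nat.totient_prime this.out] at key
  have a := Nat.le_of_dvd (by norm_num) key
  have b := relIndex_mul_index (le_normalizer (H := (P : Subgroup J)))
  have c := (P : Subgroup J).card_mul_index
  have d := card_sylow_modEq_one 7 J
  rw [Sylow.card_eq_index_normalizer P] at d
  have e : 2 ∣ (P : Subgroup J).relIndex 𝐍[(P : Subgroup J)] := by
    have e1 := ((P : Subgroup J).subgroupOf 𝐍[(P : Subgroup J)]).card_mul_index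
    rw [Nat.card_congr (subgroupOfEquivOfLe le_normalizer).toEquiv, hP7] at e1
    have e2 := orderOf_dvd_natCard _ (hRP ▸ htR)
    rw [ht, ← e1] at e2
    exact (Nat.Coprime.dvd_mul_left (by norm_num)).1 e2
  rw [hP7, hc] at c
  change (𝐍[(P : Subgroup J)]).index % 7 = 1 % 7 at d
  generalize (P : Subgroup J).relIndex 𝐍[(P : Subgroup J)] = k at *
  generalize (𝐍[(P : Subgroup J)]).index = n at *
  interval_cases k <;> omega

theorem not_hy_cit (hJ : CIT.IsCIT J) (h2 : ¬ IsPGroup 2 J) (S : Sylow 2 J) (V : Subgroup J)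
    (hV : ∀ x, x ∈ V ↔ x ∈ S ∧ x * x = 1) (h4 : 4 < Nat.card V) : ¬ Hy J := by
  intro hy
  obtain ⟨r, hr, hd, hr2⟩ : ∃ r : ℕ, r.Prime ∧ r ∣ Nat.card J ∧ r ≠ 2 := by
    by_contra hn
    push Not at hn
    exact h2 (IsPGroup.of_card (Nat.eq_prime_pow_of_unique_prime_dvd Nat.card_pos.ne'
      fun {d} a b => hn d a b))
  have := Fact.mk hr
  obtain ⟨w, hw⟩ := exists_prime_orderOf_dvd_card' (G := J) r hd
  obtain ⟨σ, h1, hσ, h3⟩ := hy w (hw ▸ hr) (hw ▸ hr2)
  have hwo : Odd (orderOf w) := hw ▸ hr.odd_of_ne_two hr2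
  have hσ2 : σ * σ = 1 := MulEquiv.ext h1
  obtain ⟨⟨T, hT⟩⟩ : Nonempty {T : Sylow 2 J // σ • T = T} := by
    have a := card_mod_two (fun T : Sylow 2 J => σ • T) fun T => by
      rw [← mul_smul, hσ2, one_smul]
    have b := card_sylow_modEq_one 2 J
    by_contra c
    rw [not_nonempty_iff] at c
    rw [Nat.card_of_isEmpty (α := {T : Sylow 2 J // σ • T = T})] at a
    exact absurd (b.symm.trans a) (by decide)
  obtain ⟨g, rfl⟩ := MulAction.exists_smul_eq J S T
  set W := cj(g, V) with hW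
  have hW1 : ∀ x, x ∈ W ↔ x ∈ g • S ∧ x * x = 1 := fun x => by
    rw [hW, mem_cj, hV, Sylow.smul_def, ← mem_aut_smul (α := MulAut.conj g)]
    simp only [MulAut.conj_apply]
    rw [show g * (g⁻¹ * x * g) * g⁻¹ = x by group,
      show g⁻¹ * x * g * (g⁻¹ * x * g) = g⁻¹ * (x * x) * g⁻¹⁻¹ by group, conj_eq_one_iff]
  have hW2 : ∀ x ∈ W, σ x ∈ W := fun x hx => by
    rw [hW1] at hx ⊢
    exact ⟨hT ▸ mem_aut_smul.2 hx.1, by rw [← map_mul, hx.2, map_one]⟩
  have hW3 : ∀ x ∈ W, ∀ y ∈ W, x * y = y * x := fun x hx y hy => by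
    have a := ((hW1 _).1 hx).2
    have b := ((hW1 _).1 hy).2
    have c := ((hW1 _).1 (mul_mem hx hy)).2
    calc x * y = (x * y)⁻¹ := (mul_eq_one_iff_inv_eq.1 c).symm
      _ = y * x := by rw [mul_inv_rev, mul_eq_one_iff_inv_eq.1 a, mul_eq_one_iff_inv_eq.1 b]
  let f : W →* W := MonoidHom.mk' (fun x => ⟨x * σ x, mul_mem x.2 (hW2 _ x.2)⟩) fun x y => by
    apply Subtype.ext
    change (x : J) * y * σ (x * y) = x * σ x * (y * σ y)
    rw [map_mul, mul_assoc, mul_assoc, ← mul_assoc (y : J), hW3 _ y.2 _ (hW2 _ x.2), mul_assoc]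
  have hk : f.ker ≤ (fx σ).subgroupOf W := fun x hx => by
    have a : (x : J) * σ x = 1 := congrArg Subtype.val hx
    exact mul_left_cancel (a.trans ((hW1 _).1 x.2).2.symm)
  have hr' : f.range ≤ (fx σ).subgroupOf W := by
    rintro _ ⟨x, rfl⟩
    change σ (x * σ x) = x * σ x
    rw [map_mul, h1, hW3 _ x.2 _ (hW2 _ x.2)]
  have hc : 2 < Nat.card ((fx σ).subgroupOf W) := by
    have a := f.ker.card_mul_index
    rw [index_ker, show Nat.card W = Nat.card V from card_cj V g] at a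
    have b := Nat.mul_le_mul (card_le_of_le hk) (card_le_of_le hr')
    by_contra c
    have := Nat.mul_le_mul (not_lt.1 c) (not_lt.1 c)
    omega
  have inv : ∀ a ∈ W, σ a = a → a ≠ 1 → a * w * a⁻¹ = w⁻¹ := fun a ha ha' ha1 => by
    have a2 := ((hW1 _).1 ha).2
    have hK : w ∈ pResidualOf 2 (fx σ) := (mem_K h3).2 ⟨hσ, hwo⟩
    have b : ¬ Odd (orderOf (a * w)) := fun b => by
      have c := mul_mem ((mem_K h3).2 ⟨by rw [map_mul, ha', hσ], b⟩) (inv_mem hK)
      rw [mul_inv_cancel_right] at c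
      exact ha1 (eq_one_of_coprime (k := 1) (Nat.coprime_two_right.2 ((mem_K h3).1 c).2)
        (by rw [pow_one, pow_two, a2]))
    obtain ⟨k, hk⟩ := hJ.pow_two_of_even (Nat.not_odd_iff_even.1 b)
    have c : a * w * a⁻¹ * w ∈ pResidualOf 2 (fx σ) :=
      mul_mem (conj_mem_of_norm (le_norm_res (fx σ) ha') hK) hK
    refine mul_eq_one_iff_eq_inv.1 (eq_one_of_coprime (k := k)
      (Nat.coprime_two_right.2 ((mem_K h3).1 c).2) ?_)
    rw [mul_eq_one_iff_inv_eq.1 a2, mul_assoc (a * w), ← pow_two, ← pow_mul, mul_comm, pow_mul, hk,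
      one_pow]
  have := Fintype.ofFinite ((fx σ).subgroupOf W)
  rw [Nat.card_eq_fintype_card, Fintype.two_lt_card_iff] at hc
  obtain ⟨a, b, c, hab, hac, hbc⟩ := hc
  have key : ∀ x y : (fx σ).subgroupOf W, x ≠ y →
      ((x⁻¹ * y : W) : J) * w * ((x⁻¹ * y : W) : J)⁻¹ = w⁻¹ := fun x y hxy =>
    inv _ (x⁻¹ * y : W).2 (x⁻¹ * y).2 fun e => hxy (by
      rw [← inv_mul_eq_one]
      exact Subtype.ext (Subtype.ext e))
  have e1 := key a b hab
  have e2 := key b c hbc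
  have e3 := key a c hac
  have e4 : ((a⁻¹ * c : W) : J) = ((a⁻¹ * b : W) : J) * ((b⁻¹ * c : W) : J) := by
    simp only [coe_mul, coe_inv]; group
  generalize ((a⁻¹ * b : W) : J) = u at *
  generalize ((b⁻¹ * c : W) : J) = v at *
  rw [e4] at e3
  have e5 : w⁻¹ = w := by
    calc w⁻¹ = u * (v * w * v⁻¹) * u⁻¹ := by rw [← e3]; group
      _ = (u * w * u⁻¹)⁻¹ := by rw [e2]; group
      _ = w := by rw [e1, inv_inv]
  have e6 : w = 1 := eq_one_of_coprime (k := 1) (Nat.coprime_two_right.2 hwo)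
    (by rw [pow_one, pow_two, mul_eq_one_iff_inv_eq, e5])
  rw [e6, orderOf_one] at hw
  exact hr.one_lt.ne hw

end Cfsg.Agent.PN4
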