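import Mathlib
import Cfsg.Agent.PN4.Abs

/-! The obstruction to `Hy` for groups like `PSL₂(q)`, `q` odd. -/

set_option autoImplicit false
set_option linter.unusedSectionVars false

namespace Cfsg.Agent.PN4

open Subgroup Cfsg.Agent.GT.Tr Cfsg.Agent.Loc.Mss

variable {J : Type*} [Group J] [Finite J] {p : ℕ} [hp : Fact p.Prime]

/-- Sylow `p`-subgroups are centralisers of their elements and permute the others regularly -/
structure Zs (p : ℕ) (J : Type*) [Group J] : Prop where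
  odd : p ≠ 2
  cen : ∀ P : Sylow p J, ∀ y ∈ P, y ≠ 1 → centralizer {y} = (P : Subgroup J)
  num : ∀ P : Sylow p J, Nat.card (Sylow p J) = Nat.card P + 1

namespace Zs

variable (h : Zs p J)
include h

theorem ti {P Q : Sylow p J} {y : J} (h1 : y ∈ P) (h2 : y ∈ Q) (h3 : y ≠ 1) : P = Q :=
  Sylow.ext ((h.cen P y h1 h3).symm.trans (h.cen Q y h2 h3))

theorem fix {P : Sylow p J} {α : MulAut J} {y : J} (h1 : y ∈ P) (h2 : α y ∈ P) (h3 : y ≠ 1) :
    α • P = P :=
  h.ti (mem_aut_smul.2 h1) h2 (by simpa using h3)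

theorem semi {P Q : Sylow p J} (hne : Q ≠ P) {u : J} (hu : u ∈ P) (hQ : u • Q = Q) : u = 1 := by
  by_contra h1
  refine hne (h.ti ?_ hu h1)
  have a := P.2.inf_normalizer_sylow Q
  have b : u ∈ (P : Subgroup J) ⊓ normalizer (Q : Set J) :=
    ⟨hu, Sylow.smul_eq_iff_mem_normalizer.1 hQ⟩
  rw [a] at b
  exact b.2

theorem eq_one {P : Sylow p J} {u : J} (hu : u ∈ P) (h2 : u * u = 1) : u = 1 := by
  obtain ⟨k, hk⟩ := pg_iff.1 P.2 u hu
  refine eq_one_of_coprime (p := p) (k := k) ?_ hk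
  exact ((Nat.coprime_primes Nat.prime_two hp.out).2 h.odd.symm).coprime_dvd_left
    (orderOf_dvd_of_pow_eq_one (by rwa [pow_two]))

theorem smul_self {P : Sylow p J} {u : J} (hu : u ∈ P) : u • P = P :=
  Sylow.smul_eq_iff_mem_normalizer.2 (le_normalizer (H := (P : Subgroup J)) hu)

theorem trans {P Q R : Sylow p J} (hQ : Q ≠ P) (hR : R ≠ P) : ∃ u ∈ P, u • Q = R := by
  classical
  let f : P → {R : Sylow p J // R ≠ P} := fun u => ⟨(u : J) • Q, fun e => hQ (by
    rw [smul_eq_iff_eq_inv_smul, h.smul_self (inv_mem u.2)] at e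
    exact e)⟩
  have hf : Function.Injective f := fun u v e => by
    have a : (u : J) • Q = (v : J) • Q := congrArg Subtype.val e
    rw [← inv_smul_eq_iff, ← mul_smul] at a
    exact Subtype.ext (inv_mul_eq_one.1 (h.semi hQ (mul_mem (inv_mem v.2) u.2) a)).symm
  have hc : Nat.card {R : Sylow p J // R ≠ P} ≤ Nat.card P := by
    have := Fintype.ofFinite (Sylow p J)
    have a := h.num P
    rw [Nat.card_eq_fintype_card] at a
    rw [Nat.card_eq_fintype_card, Fintype.card_subtype_compl, Fintype.card_subtype_eq]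
    omega
  obtain ⟨u, hu⟩ := (hf.bijective_of_nat_card_le hc).2 ⟨R, hR⟩
  exact ⟨u, u.2, congrArg Subtype.val hu⟩

theorem comm {P : Sylow p J} {x y : J} (hx : x ∈ P) (hy : y ∈ P) : x * y = y * x := by
  by_cases h1 : y = 1
  · simp [h1]
  · exact mem_centralizer_singleton_iff.1 ((h.cen P y hy h1).ge hx)

theorem inv {P : Sylow p J} {α : MulAut J} (h1 : ∀ x, α (α x) = x) (h2 : α • P = P)
    (h3 : ∀ y ∈ P, α y = y → y = 1) {y : J} (hy : y ∈ P) : α y = y⁻¹ := by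
  have a : α y ∈ P := h2 ▸ mem_aut_smul.2 hy
  exact mul_eq_one_iff_eq_inv'.1 (h3 _ (mul_mem hy a) (by rw [map_mul, h1, h.comm hy a]))

theorem exists_fix {P : Sylow p J} {α : MulAut J} (h1 : ∀ x, α (α x) = x) (h2 : α • P = P) :
    ∃ Q : Sylow p J, Q ≠ P ∧ α • Q = Q := by
  have a := card_mod_two (fun T : Sylow p J => α • T) fun T => by
    rw [← mul_smul, show α * α = 1 from MulEquiv.ext h1, one_smul]
  by_contra c
  push Not at c
  have b : Nat.card {T : Sylow p J // α • T = T} = 1 := Nat.card_eq_one_iff_exists.2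
    ⟨⟨P, h2⟩, fun T => Subtype.ext (by_contra fun e => c _ e T.2)⟩
  obtain ⟨k, hk⟩ := IsPGroup.iff_card.1 P.2
  have d : Odd (Nat.card P) := hk ▸ (hp.out.odd_of_ne_two h.odd).pow
  rw [b, h.num P, Nat.ModEq] at a
  rw [Nat.odd_iff] at d
  omega

theorem uniq {P Q R : Sylow p J} {α : MulAut J} (h3 : ∀ y ∈ P, α y = y⁻¹) (hQ : Q ≠ P)
    (hR : R ≠ P) (h1 : α • Q = Q) (h2 : α • R = R) : R = Q := by
  obtain ⟨u, hu, rfl⟩ := h.trans hQ hR
  rw [aut_smul_smul, h1, h3 u hu, inv_smul_eq_iff, ← mul_smul] at h2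
  rw [h.eq_one hu (h.semi hQ (mul_mem hu hu) h2.symm), one_smul]

theorem not_hy (hJ : Even (Nat.card J)) (hd : p ∣ Nat.card J) : ¬ Hy J := by
  intro hy
  obtain ⟨w, hw⟩ := exists_prime_orderOf_dvd_card' (G := J) p hd
  have hw1 : w ≠ 1 := fun e => hp.out.one_lt.ne (by rw [← hw, e, orderOf_one])
  obtain ⟨σ, h1, hσ, h3⟩ := hy w (hw ▸ hp.out) (hw ▸ h.odd)
  obtain ⟨R, h4, h5⟩ := exists_syl h3 h.odd hw hσ
  obtain ⟨t, hσt, ht, htR⟩ := exists_inv hJ h1 h3 h5
  obtain ⟨U, hU⟩ := h5.pg.exists_le_sylow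
  have ht2 : t * t = 1 := by rw [← pow_two, ← ht, pow_orderOf_eq_one]
  have ht1 : t ≠ 1 := fun e => by simp [e] at ht
  set τ : MulAut J := MulAut.conj t with hτ
  have τ1 : ∀ x, τ (τ x) = x := fun x => by
    rw [← MulAut.mul_apply, hτ, ← map_mul, ht2, map_one, MulAut.one_apply]
  have τ2 : ∀ (P : Sylow p J), τ • P = P → ∀ y ∈ P, τ y = y⁻¹ := fun P hP y hy =>
    h.inv τ1 hP (fun z hz e => by
      by_contra z1
      refine ht1 (h.eq_one ((h.cen P z hz z1).le (mem_centralizer_singleton_iff.2 ?_)) ht2)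
      exact mul_inv_eq_iff_eq_mul.1 e) hy
  have hwU : w ∈ U := hU h4
  have τU : τ • U = U := h.fix hwU (hU (conj_mem_of_norm htR h4)) hw1
  have σU : σ • U = U := h.fix hwU (hσ.symm ▸ hwU) hw1
  obtain ⟨Q, hQ, τQ⟩ := h.exists_fix τ1 τU
  have στ : σ * τ = τ * σ := MulEquiv.ext fun x => by simp [hτ, hσt]
  have σQ : σ • Q = Q := h.uniq (τ2 U τU) hQ (fun e => hQ (by
    rw [← σU] at e
    exact smul_left_cancel σ e)) τQ (by rw [← mul_smul, ← στ, mul_smul, τQ])
  by_cases hA : ∀ y ∈ Q, σ y = y → y = 1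
  · have a : ∀ P : Sylow p J, (σ * τ) • P = P := fun P => by
      by_cases e : P = Q
      · rw [e, mul_smul, τQ, σQ]
      · obtain ⟨v, hv, rfl⟩ := h.trans hQ.symm e
        rw [aut_smul_smul, mul_smul, τU, σU, MulAut.mul_apply, τ2 Q τQ v hv, map_inv,
          h.inv h1 σQ hA hv, inv_inv]
    have b := a (w • Q)
    rw [aut_smul_smul, a, MulAut.mul_apply, τ2 U τU w hwU, map_inv, hσ, inv_smul_eq_iff,
      ← mul_smul] at b
    exact hw1 (h.eq_one hwU (h.semi hQ (mul_mem hwU hwU) b.symm))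
  push Not at hA
  obtain ⟨y, hy, hσy, hy1⟩ := hA
  set K := pResidualOf 2 (fx σ) with hK
  have hyK : y ∈ K := (mem_K h3).2 ⟨hσy, by
    obtain ⟨k, hk⟩ := pg_iff.1 Q.2 y hy
    exact Odd.of_dvd_nat (hp.out.odd_of_ne_two h.odd).pow (orderOf_dvd_of_pow_eq_one hk)⟩
  obtain ⟨k, hk, hky⟩ := h5.conj_le (Q.2.to_le (zpowers_le.2 hy)) (zpowers_le.2 hyK)
  have hkQ : k • Q = U := h.ti (mem_aut_smul.2 hy) (hU (hky (conj_mem_cj (mem_zpowers y))))
    (by simpa using hy1)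
  let f : MulAction.orbit K Q → MulAction.orbit K Q := fun P => ⟨τ • P.1, by
    obtain ⟨_, c, rfl⟩ := P
    refine ⟨⟨τ c, conj_mem_of_norm (le_norm_res (fx σ) hσt) c.2⟩, ?_⟩
    change τ c • Q = τ • (c : J) • Q
    rw [aut_smul_smul, τQ]⟩
  have a := card_mod_two f fun P => Subtype.ext (by
    change τ • τ • P.1 = P.1
    rw [← mul_smul, show τ * τ = 1 from MulEquiv.ext τ1, one_smul])
  have b : Nat.card {P // f P = P} = 2 := Nat.card_eq_two_iff.2
    ⟨⟨⟨Q, MulAction.mem_orbit_self Q⟩, Subtype.ext τQ⟩, ⟨⟨U, ⟨k, hk⟩, hkQ⟩, Subtype.ext τU⟩,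
      fun e => hQ (congrArg (fun x => x.1.1) e), Set.eq_univ_of_forall fun P => by
        by_cases e : P.1.1 = U
        · exact Or.inr (Subtype.ext (Subtype.ext e))
        · exact Or.inl (Subtype.ext (Subtype.ext
            (h.uniq (τ2 U τU) hQ e τQ (congrArg Subtype.val P.2))))⟩
  have c : Nat.card (MulAction.orbit K Q) ∣ Nat.card K := by
    rw [Nat.card_congr (MulAction.orbitEquivQuotientStabilizer K Q)]
    exact card_quotient_dvd_card _
  have d : ¬ 2 ∣ Nat.card K := not_dvd_card_of_forall_coprime fun x hx =>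
    Nat.coprime_two_right.2 ((mem_K h3).1 hx).2
  rw [b] at a
  exact d (((Nat.modEq_zero_iff_dvd.1 (a.trans (by decide)))).trans c)

end Zs

end Cfsg.Agent.PN4
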