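import Mathlib
import Cfsg.Agent.PN4.Defs
import Cfsg.Agent.GT.TransferAbelian
import Cfsg.Agent.GT.TransferSylow

/-! Reduction of S4131 to the configuration `Cfg`. -/

set_option autoImplicit false

namespace Cfsg.Agent.PN4

open Subgroup Cfsg.Agent.GT.Tr Cfsg.Agent.Loc.Mss

universe u

variable {G : Type u} [Group G] [Finite G] {p : ℕ} [hp : Fact p.Prime]

theorem pn_of_not_sq_dvd {M : Subgroup G} (hmin : ∀ r : ℕ, r.Prime → r ∣ Nat.card M → p ≤ r)
    (h : ¬ p ^ 2 ∣ Nat.card M) : PN p M := by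
  rw [pn_iff]
  by_cases hd : p ∣ Nat.card M
  swap
  · exact hasNormalPComplement_of_not_dvd hd
  obtain ⟨P⟩ : Nonempty (Sylow p M) := inferInstance
  refine hasNormalPComplement_of_isCyclic_of_minFac P ?_ ?_
  · obtain ⟨k, hk⟩ := IsPGroup.iff_card.1 P.2
    have h1 : k ≤ 1 := by
      by_contra h2
      exact h ((pow_dvd_pow p (by omega)).trans (hk ▸ card_subgroup_dvd_card (P : Subgroup M)))
    exact isCyclic_of_card_dvd_prime (p := p) (by
      rw [hk]; simpa using pow_dvd_pow p h1)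
  · have h1 : Nat.card M ≠ 1 := fun e => hp.out.one_lt.ne' (Nat.dvd_one.1 (e ▸ hd))
    exact le_antisymm (Nat.minFac_le_of_dvd hp.out.two_le hd)
      (hmin _ (Nat.minFac_prime h1) (Nat.minFac_dvd _))

theorem pn_of_hom {K : Type*} [Group K] [Finite K] {C : Subgroup G} (f : C →* K)
    (hk : f.ker ≤ center C) (h : PN p f.range) : PN p C := by
  rw [pn_iff] at h ⊢
  exact hasNormalPComplement_of_quotient_of_le_center f.ker hk
    (h.of_mulEquiv (QuotientGroup.quotientKerEquivRange f).symm)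

theorem exists_bigger {D C : Subgroup G} (hD : IsPGroup p D) (hle : D ≤ C)
    (h : Nat.card D * p ∣ Nat.card C) :
    ∃ s ∈ C, s ∈ 𝐍[D] ∧ s ∉ D ∧ s ^ p ∈ D := by
  obtain ⟨T, hDT, hT⟩ := Syl.exists_ge hD hle
  have hlt : D < T := lt_of_le_of_ne hDT fun e => by
    subst e
    obtain ⟨P, h1, -⟩ := hT.exists_sylow
    apply P.not_dvd_index
    rw [h1]
    have h2 := (D.subgroupOf C).card_mul_index
    rw [Nat.card_congr (subgroupOfEquivOfLe hle).toEquiv] at h2
    rw [← h2] at h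
    exact Nat.dvd_of_mul_dvd_mul_left Nat.card_pos h
  obtain ⟨y, ⟨hy1, hy2⟩, hy3⟩ := SetLike.exists_of_lt (lt_inf_normalizer hT.pg hlt)
  obtain ⟨k, hk⟩ := pg_iff.1 hT.pg y hy1
  have hex : ∃ k, y ^ p ^ k ∈ D := ⟨k, hk ▸ D.one_mem⟩
  classical
  have h0 : Nat.find hex ≠ 0 := fun e => hy3 (by simpa [e] using Nat.find_spec hex)
  obtain ⟨j, hj⟩ := Nat.exists_eq_succ_of_ne_zero h0
  refine ⟨y ^ p ^ j, pow_mem (hT.le hy1) _, pow_mem hy2 _, Nat.find_min hex (by omega), ?_⟩
  rw [← pow_mul, ← pow_succ]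
  have := Nat.find_spec hex
  rwa [hj] at this

theorem red (hmin : ∀ r : ℕ, r.Prime → r ∣ Nat.card G → p ≤ r)
    (h : ∀ x : G, Prim p x → ¬ p ^ 2 ∣ (centralizer ({x} : Set G)).index)
    (IH : ∀ (L : Type u) [Group L] [Finite L] (M : Subgroup L), M.Normal →
      Nat.card L ∣ Nat.card G → Cfg p M → PN p M) : HasNormalPComplement p G := by
  by_contra hn
  obtain ⟨D, -, ⟨hD, hC⟩, hmax⟩ := GT.exists_maximal_ge
    (P := fun D : Subgroup G => IsPGroup p D ∧ ¬ PN p 𝐂[D]) (H := ⊥)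
    ⟨IsPGroup.of_bot, by rw [cent_bot, pn_iff, hasNormalPComplement_top]; exact hn⟩
  set N := 𝐍[D] with hN
  let π := QuotientGroup.mk' (D.subgroupOf N)
  let f : 𝐂[D] →* N ⧸ D.subgroupOf N := π.comp (inclusion (cent_le_norm D))
  have hker : ∀ x : N, π x = 1 ↔ (x : G) ∈ D := fun x => QuotientGroup.eq_one_iff x
  have hcard : Nat.card D * Nat.card (N ⧸ D.subgroupOf N) ∣ Nat.card G := by
    have := card_eq_card_quotient_mul_card_subgroup (D.subgroupOf N)
    rw [Nat.card_congr (subgroupOfEquivOfLe le_normalizer).toEquiv] at this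
    rw [mul_comm, ← this]
    exact card_subgroup_dvd_card N
  have hM : ¬ PN p f.range := fun hM => hC (pn_of_hom f (fun x hx => by
    have : (x : G) ∈ D := (hker _).1 hx
    exact mem_center_iff.2 fun y => Subtype.ext (mem_cent.1 y.2 _ this).symm) hM)
  have hMd : Nat.card f.range ∣ Nat.card (N ⧸ D.subgroupOf N) := card_subgroup_dvd_card _
  refine hM (IH _ _ ⟨?_⟩ ((Dvd.intro_left _ rfl).trans hcard) ⟨?_, ?_⟩)
  · rintro _ ⟨x, rfl⟩ g
    obtain ⟨g, rfl⟩ := QuotientGroup.mk'_surjective _ g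
    exact ⟨⟨g * x * (g : G)⁻¹, conj_mem_of_norm (norm_cent le_rfl g.2) x.2⟩, rfl⟩
  · intro s hs
    obtain ⟨s, rfl⟩ := QuotientGroup.mk'_surjective _ s
    obtain ⟨a, -, ha, j, hj⟩ := lift_pow (p := p) π (x := s) (k := 1)
      (by rw [pow_one, ← hs]; exact pow_orderOf_eq_one _)
    change orderOf (π s) = p at hs
    change PN p (f.range ⊓ centralizer {π s})
    rw [← ha] at hs ⊢
    have h1 : (a : G) ∉ D := fun e => by
      rw [(hker a).2 e, orderOf_one] at hs
      exact hp.out.one_lt.ne hs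
    have h2 : IsPGroup p ↥(D ⊔ zpowers (a : G)) := pg_sup' hD (pg_iff.2 fun z hz => ⟨j, by
      rw [← hj, ← Subgroup.orderOf_coe]
      exact orderOf_dvd_iff_pow_eq_one.1 (orderOf_dvd_of_mem_zpowers hz)⟩) (zpowers_le.2 a.2)
    have h3 : PN p 𝐂[D ⊔ zpowers (a : G)] := by
      by_contra h3
      exact h1 (hmax _ ⟨h2, h3⟩ le_sup_left ▸ mem_sup_right (mem_zpowers (a : G)))
    have key : ∀ x ∈ f.range ⊓ centralizer {π a}, (orderOf x).Coprime p →
        ∃ y : 𝐂[D], f y = x ∧ (orderOf (y : G)).Coprime p ∧ (y : G) ∈ 𝐂[D ⊔ zpowers (a : G)] := by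
      rintro _ ⟨⟨x, rfl⟩, hx⟩ hc
      obtain ⟨y, -, hy, hy'⟩ := lift_coprime f hc
      rw [← Subgroup.orderOf_coe] at hy'
      refine ⟨y, hy, hy', ?_⟩
      rw [← hy] at hx
      have h4 : π a * f y = f y * π a := hx _ rfl
      have h5 : Commute (y : G) a := commute_of_mod hD y.2 hy' (by
        have : π (a⁻¹ * (inclusion (cent_le_norm D) y * a * (inclusion (cent_le_norm D) y)⁻¹)) = 1 := by
          rw [map_mul, map_mul, map_mul, map_inv, map_inv]
          change (π a)⁻¹ * (f y * π a * (f y)⁻¹) = 1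
          rw [← h4]; group
        exact (hker _).1 this)
      rw [cent_sup]
      refine ⟨y.2, mem_cent.2 ?_⟩
      rintro _ ⟨n, rfl⟩
      exact (h5.zpow_right n).symm
    intro x hx y hy hx' hy'
    obtain ⟨x, rfl, a1, a2⟩ := key x hx hx'
    obtain ⟨y, rfl, b1, b2⟩ := key y hy hy'
    rw [← map_mul]
    apply coprime_map
    rw [← Subgroup.orderOf_coe]
    exact h3 _ a2 _ b2 a1 b1
  · rintro _ ⟨w, rfl⟩ hw
    obtain ⟨x, -, hx, hx'⟩ := lift_prim f hw
    rw [← hx]
    have h1 : Prim p (x : G) := by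
      obtain ⟨r, k, a, b, c⟩ := hx'
      exact ⟨r, k, a, b, by rwa [Subgroup.orderOf_coe]⟩
    have h2 : p ^ 2 ∣ Nat.card f.range := by
      by_contra h2
      exact hM (pn_of_not_sq_dvd (fun r hr hd => hmin r hr
        (hd.trans (hMd.trans ((Dvd.intro_left _ rfl).trans hcard)))) h2)
    have h3 : Nat.card D * p ^ 2 ∣ Nat.card G := (Nat.mul_dvd_mul_left _ (h2.trans hMd)).trans hcard
    have hle : D ≤ centralizer ({(x : G)} : Set G) := fun d hd =>
      mem_centralizer_singleton_iff.2 (mem_cent.1 x.2 d hd)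
    obtain ⟨k, hk⟩ := IsPGroup.iff_card.1 hD
    have h4 : Nat.card D * p ∣ Nat.card (centralizer ({(x : G)} : Set G)) := by
      rw [← (centralizer ({(x : G)} : Set G)).card_mul_index, hk, ← pow_add] at h3
      rw [hk, ← pow_succ]
      have h5 := h x h1
      rw [hp.out.pow_dvd_iff_le_factorization Nat.card_pos.ne']
      rw [hp.out.pow_dvd_iff_le_factorization index_ne_zero_of_finite] at h5
      rw [hp.out.pow_dvd_iff_le_factorization (mul_ne_zero Nat.card_pos.ne' index_ne_zero_of_finite),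
        Nat.factorization_mul Nat.card_pos.ne' index_ne_zero_of_finite, Finsupp.add_apply] at h3
      omega
    obtain ⟨s, s1, s2, s3, s4⟩ := exists_bigger hD hle h4
    refine ⟨π ⟨s, s2⟩, orderOf_eq_prime ?_ fun e => s3 ((hker _).1 e), ?_⟩
    · rw [← map_pow]
      exact (hker _).2 s4
    · have : Commute (⟨s, s2⟩ : N) (inclusion (cent_le_norm D) x) :=
        Subtype.ext (mem_centralizer_singleton_iff.1 s1)
      exact this.map π

end Cfsg.Agent.PN4
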